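import Groth.Prelude.Def_EGA4c
import Groth.Agent.DepthLib.Localization

/-!
Purity and closedness along a set of primes, in terms of associated primes and depth.
-/

set_option autoImplicit false

universe u

open AlgebraicGeometry TopologicalSpace CategoryTheory
open scoped Pointwise

namespace Groth.Agent.PureClosed

variable (A : Type u) [CommRing A] (M : Type u) [AddCommGroup M] [Module A M] (J : Ideal A)

/-- The open complement of `V(J)` as an open of the prime spectrum. -/
def U : Opens (PrimeSpectrum.Top A) := EGA4.openCompl A J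

/-- Sections of `M~` over the complement of `V(J)`. -/
abbrev Sec := (structureSheafInType A M).obj.obj (Opposite.op (U A J))

/-- The restriction map `M → Γ(U, M~)`. -/
noncomputable def res : M →ₗ[A] Sec A M J := StructureSheaf.toOpenₗ A M (U A J)

variable {A M J}

theorem isPrime_pt (x : PrimeSpectrum.Top A) : x.asIdeal.IsPrime := x.isPrime

attribute [local instance] isPrime_pt

theorem mem_U_iff {x : PrimeSpectrum A} : x ∈ U A J ↔ ¬ J ≤ x.asIdeal := Iff.rfl

theorem res_apply (m : M) (x : U A J) : (res A M J m).1 x = LocalizedModule.mk m 1 := rfl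

theorem mk_eq_zero_iff {x : PrimeSpectrum A} {m : M} {s : x.asIdeal.primeCompl} :
    LocalizedModule.mk m s = 0 ↔ ∃ c : A, c ∉ x.asIdeal ∧ c • m = 0 := by
  rw [← LocalizedModule.zero_mk (1 : x.asIdeal.primeCompl), LocalizedModule.mk_eq]
  constructor
  · rintro ⟨c, hc⟩
    exact ⟨c, c.2, by simpa [Submonoid.smul_def] using hc⟩
  · rintro ⟨c, hc, h⟩
    exact ⟨⟨c, hc⟩, by simpa [Submonoid.smul_def] using h⟩

theorem res_eq_zero_of (m : M) (h : ∀ f ∈ J, ∃ k : ℕ, f ^ k • m = 0) : res A M J m = 0 := by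
  refine Subtype.ext (funext fun x => ?_)
  obtain ⟨f, hf, hfx⟩ := SetLike.not_le_iff_exists.mp (mem_U_iff.mp x.2)
  obtain ⟨k, hk⟩ := h f hf
  exact mk_eq_zero_iff.mpr ⟨f ^ k, fun h => hfx (x.1.isPrime.mem_of_pow_mem k h), hk⟩

variable (A M J)

theorem restr_iff :
    (Function.Injective (EGA4.restrCompl A J M) ↔ Function.Injective (res A M J)) ∧
      (Function.Bijective (EGA4.restrCompl A J M) ↔ Function.Bijective (res A M J)) := by
  have h : (res A M J : M → Sec A M J) =
      (EGA4.restrCompl A J M : _ → _) ∘ StructureSheaf.toOpenₗ A M ⊤ := rfl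
  have hb := StructureSheaf.toOpenₗ_top_bijective (R := A) (M := M)
  rw [h]
  exact ⟨(Function.Injective.of_comp_iff' _ hb).symm, (Function.Bijective.of_comp_iff _ hb).symm⟩

theorem injective_res_iff [IsNoetherianRing A] :
    Function.Injective (res A M J) ↔ ∀ p ∈ associatedPrimes A M, ¬ J ≤ p := by
  constructor
  · intro hinj p hp hJ
    obtain ⟨hprime, m, rfl⟩ := hp
    have hm : m = 0 := hinj (by
      rw [map_zero]
      refine res_eq_zero_of m fun f hf => ?_
      obtain ⟨k, hk⟩ := hJ hf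
      exact ⟨k, by simpa using Submodule.mem_colon.mp hk m rfl⟩)
    subst hm
    exact hprime.ne_top (Ideal.radical_eq_top.mpr
      (eq_top_iff.mpr fun r _ => Submodule.mem_colon.mpr fun y hy => by
        rw [Set.mem_singleton_iff.mp hy, smul_zero]; exact zero_mem _))
  · intro h
    rw [injective_iff_map_eq_zero]
    intro m hm
    by_contra hne
    obtain ⟨P, hP, hle⟩ := exists_le_isAssociatedPrime_of_isNoetherianRing A m hne
    have hPp := hP.isPrime
    let x : U A J := ⟨⟨P, hPp⟩, mem_U_iff.mpr (h P hP)⟩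
    obtain ⟨c, hc, hcm⟩ := mk_eq_zero_iff.mp (congrArg (fun s : Sec A M J => s.1 x) hm)
    refine hc (hle (Submodule.mem_colon.mpr fun y hy => ?_))
    rw [Set.mem_singleton_iff.mp hy, hcm]
    exact zero_mem _

theorem isPureAlong_iff [IsNoetherianRing A] {Z : Set (PrimeSpectrum A)}
    (hZ : StableUnderSpecialization Z) :
    EGA4.IsPureAlong Z M ↔ ∀ p : PrimeSpectrum A, p.asIdeal ∈ associatedPrimes A M → p ∉ Z := by
  constructor
  · intro h p hp hpZ
    have := (injective_res_iff A M p.asIdeal).mp ((restr_iff A M p.asIdeal).1.mp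
      (h p.asIdeal fun q hq => hZ ((PrimeSpectrum.le_iff_specializes p q).mp hq) hpZ)) _ hp
    exact this le_rfl
  · intro h J hJ
    rw [(restr_iff A M J).1, injective_res_iff]
    intro p hp hle
    exact h ⟨p, hp.isPrime⟩ hp (hJ hle)

theorem one_le_idealDepth_iff_injective [IsNoetherianRing A] [Module.Finite A M] :
    1 ≤ LocCoh.idealDepth J M ↔ Function.Injective (res A M J) := by
  rw [injective_res_iff, DepthLib.one_le_idealDepth_iff_forall_associatedPrimes]

variable {A M J}

theorem smul_mem_pow_smul_top {x y : A} (hx : IsSMulRegular M x)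
    (hy : IsSMulRegular (QuotSMulTop x M) y) :
    ∀ (a : ℕ) (m z : M), y • m = x ^ a • z → ∃ m', m = x ^ a • m' := by
  intro a
  induction a with
  | zero => intro m z _; exact ⟨m, by simp⟩
  | succ a ih =>
    intro m z h
    have hq : Submodule.Quotient.mk (p := x • (⊤ : Submodule A M)) m = 0 := hy (by
      show y • _ = y • _
      rw [smul_zero, ← Submodule.Quotient.mk_smul, h, Submodule.Quotient.mk_eq_zero, pow_succ',
        mul_smul]
      exact Submodule.smul_mem_pointwise_smul _ _ _ trivial)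
    obtain ⟨m₁, -, hm₁⟩ := (Submodule.Quotient.mk_eq_zero _).mp hq
    change x • m₁ = m at hm₁
    obtain ⟨m', hm'⟩ := ih m₁ z (hx (by
      show x • (y • m₁) = x • (x ^ a • z)
      rw [smul_comm, hm₁, h, pow_succ', mul_smul]))
    exact ⟨m', by rw [← hm₁, hm', pow_succ', mul_smul]⟩

theorem smul_mem_pow_smul_top' {x y : A} (hx : IsSMulRegular M x)
    (hy : IsSMulRegular (QuotSMulTop x M) y) (a : ℕ) :
    ∀ (c : ℕ) (m z : M), y ^ c • m = x ^ a • z → ∃ m', m = x ^ a • m' := by
  intro c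
  induction c with
  | zero => intro m z h; exact ⟨z, by simpa using h⟩
  | succ c ih =>
    intro m z h
    rw [pow_succ', mul_smul] at h
    obtain ⟨m', hm'⟩ := smul_mem_pow_smul_top hx hy a _ z h
    exact ih m m' hm'

theorem bijective_of_two_le [IsNoetherianRing A] [Module.Finite A M]
    (h : 2 ≤ LocCoh.idealDepth J M) : Function.Bijective (res A M J) := by
  refine ⟨(one_le_idealDepth_iff_injective A M J).mp (le_trans (by norm_num) h), fun s => ?_⟩
  obtain ⟨x, hxJ, hx, y, hyJ, hy⟩ := DepthLib.two_le_idealDepth_iff.mp h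
  have sub : ∀ g ∈ J, PrimeSpectrum.basicOpen g ≤ U A J := fun g hg q hq =>
    mem_U_iff.mpr fun hle => hq (hle hg)
  have frac : ∀ g ∈ J, ∃ (m : M) (a : ℕ), ∀ q : U A J, g ∉ q.1.asIdeal →
      g ^ a • s.1 q = LocalizedModule.mk m 1 := by
    intro g hg
    obtain ⟨⟨m, ⟨_, a, rfl⟩⟩, ha⟩ :=
      IsLocalizedModule.surj (Submonoid.powers g)
        (StructureSheaf.toOpenₗ A M (PrimeSpectrum.basicOpen g))
        ((structureSheafInType A M).1.map (homOfLE (sub g hg)).op s)
    refine ⟨m, a, fun q hq => ?_⟩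
    exact congrArg (fun t : (structureSheafInType A M).obj.obj
      (Opposite.op (PrimeSpectrum.basicOpen g)) => t.1 ⟨q.1, hq⟩) ha
  obtain ⟨m, a, hm⟩ := frac x hxJ
  obtain ⟨n, b, hn⟩ := frac y hyJ
  obtain ⟨k, hk⟩ : ∃ k : ℕ, (x * y) ^ k • (y ^ b • m - x ^ a • n) = 0 := by
    suffices (x * y) ∈ ((⊥ : Submodule A M).colon {y ^ b • m - x ^ a • n}).radical by
      obtain ⟨k, hk⟩ := this
      exact ⟨k, by simpa using Submodule.mem_colon.mp hk _ rfl⟩
    rw [← PrimeSpectrum.vanishingIdeal_zeroLocus_eq_radical, PrimeSpectrum.mem_vanishingIdeal]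
    intro q hq
    by_contra hxy
    have hxq : x ∉ q.asIdeal := fun h => hxy (q.asIdeal.mul_mem_right _ h)
    have hyq : y ∉ q.asIdeal := fun h => hxy (q.asIdeal.mul_mem_left _ h)
    let q' : U A J := ⟨q, sub x hxJ hxq⟩
    have h0 : (LocalizedModule.mk (y ^ b • m - x ^ a • n) (1 : q.asIdeal.primeCompl)) = 0 := by
      rw [← LocalizedModule.mkLinearMap_apply, map_sub, map_smul, map_smul,
        LocalizedModule.mkLinearMap_apply, LocalizedModule.mkLinearMap_apply,
        ← hm q' hxq, ← hn q' hyq, smul_comm, sub_self]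
    obtain ⟨c, hc, hc0⟩ := mk_eq_zero_iff.mp h0
    exact hc (hq (Submodule.mem_colon.mpr fun z hz => by
      rw [Set.mem_singleton_iff.mp hz, hc0]; exact zero_mem _))
  rw [mul_pow, mul_smul] at hk
  have hk' := hx.pow k (hk.trans (smul_zero _).symm)
  rw [smul_sub, sub_eq_zero, ← mul_smul, ← pow_add, smul_comm] at hk'
  obtain ⟨m', hm'⟩ := smul_mem_pow_smul_top' hx hy a _ m _ hk'
  refine ⟨m', ?_⟩
  have hxloc : ∀ q : U A J, x ∉ q.1.asIdeal → s.1 q = LocalizedModule.mk m' 1 := by
    intro q hq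
    have hu := IsLocalizedModule.map_units (LocalizedModule.mkLinearMap q.1.asIdeal.primeCompl M)
      (⟨x ^ a, pow_mem (show x ∈ q.1.asIdeal.primeCompl from hq) a⟩ : q.1.asIdeal.primeCompl)
    apply ((Module.End.isUnit_iff _).mp hu).1
    show x ^ a • s.1 q = x ^ a • LocalizedModule.mk m' 1
    rw [hm q hq, hm', LocalizedModule.smul'_mk]
  refine Subtype.ext (funext fun q => ?_)
  obtain ⟨g, hgq, hgU, f, hgf⟩ := StructureSheaf.exists_const (U A J) s q.1 q.2
  have hval : ∀ (r : PrimeSpectrum A) (hr : g ∉ r.asIdeal),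
      LocalizedModule.mk f (⟨g, hr⟩ : r.asIdeal.primeCompl) = s.1 ⟨r, hgU hr⟩ := fun r hr =>
    congrArg (fun t : (structureSheafInType A M).obj.obj
      (Opposite.op (PrimeSpectrum.basicOpen g)) => t.1 ⟨r, hr⟩) hgf
  obtain ⟨l, hl⟩ : ∃ l : ℕ, (g * x) ^ l • (f - g • m') = 0 := by
    suffices (g * x) ∈ ((⊥ : Submodule A M).colon {f - g • m'}).radical by
      obtain ⟨k, hk⟩ := this
      exact ⟨k, by simpa using Submodule.mem_colon.mp hk _ rfl⟩
    rw [← PrimeSpectrum.vanishingIdeal_zeroLocus_eq_radical, PrimeSpectrum.mem_vanishingIdeal]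
    intro r hr
    by_contra hgx
    have hgr : g ∉ r.asIdeal := fun h => hgx (r.asIdeal.mul_mem_right _ h)
    have hxr : x ∉ r.asIdeal := fun h => hgx (r.asIdeal.mul_mem_left _ h)
    obtain ⟨c, hc⟩ := LocalizedModule.mk_eq.mp ((hval r hgr).trans (hxloc ⟨r, hgU hgr⟩ hxr))
    refine c.2 (hr (Submodule.mem_colon.mpr fun z hz => ?_))
    rw [Set.mem_singleton_iff.mp hz, smul_sub]
    simp only [Submonoid.smul_def, one_smul] at hc
    rw [hc, sub_self]
    exact zero_mem _
  rw [mul_pow, mul_comm, mul_smul] at hl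
  have hl' := hx.pow l (hl.trans (smul_zero _).symm)
  show LocalizedModule.mk m' 1 = s.1 q
  refine Eq.trans ?_ (hval q.1 hgq)
  refine LocalizedModule.mk_eq.mpr ⟨⟨g ^ l, pow_mem (show g ∈ q.1.asIdeal.primeCompl from hgq) l⟩, ?_⟩
  simp only [smul_sub, sub_eq_zero] at hl'
  simp only [Submonoid.smul_def, one_smul]
  exact hl'.symm

theorem two_le_of_bijective [IsNoetherianRing A] [Module.Finite A M]
    (h : Function.Bijective (res A M J)) : 2 ≤ LocCoh.idealDepth J M := by
  classical
  obtain ⟨x, hxJ, hx⟩ := DepthLib.one_le_idealDepth_iff.mp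
    ((one_le_idealDepth_iff_injective A M J).mpr h.1)
  refine DepthLib.two_le_idealDepth_iff.mpr ⟨x, hxJ, hx, ?_⟩
  refine DepthLib.one_le_idealDepth_iff.mp
    (DepthLib.one_le_idealDepth_iff_forall_associatedPrimes.mpr fun p hp hJp => ?_)
  obtain ⟨hprime, mbar, rfl⟩ := hp
  obtain ⟨m, rfl⟩ := Submodule.Quotient.mk_surjective _ mbar
  have hdiv : ∀ f ∈ J, ∃ (k : ℕ) (mf : M), f ^ k • m = x • mf := by
    intro f hf
    obtain ⟨k, hk⟩ := hJp hf
    have := Submodule.mem_colon.mp hk _ rfl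
    rw [Submodule.mem_bot, ← Submodule.Quotient.mk_smul, Submodule.Quotient.mk_eq_zero] at this
    obtain ⟨mf, -, hmf⟩ := this
    exact ⟨k, mf, hmf.symm⟩
  choose k mf hmf using hdiv
  have hpt : ∀ q : U A J, ∃ f : A, ∃ _ : f ∈ J, f ∉ q.1.asIdeal := fun q => by
    obtain ⟨f, hf, hfq⟩ := SetLike.not_le_iff_exists.mp (mem_U_iff.mp q.2)
    exact ⟨f, hf, hfq⟩
  choose g hgJ hgq using hpt
  let S : Sec A M J :=
    ⟨fun q => LocalizedModule.mk (mf (g q) (hgJ q))
      ⟨g q ^ k (g q) (hgJ q), pow_mem (show g q ∈ q.1.asIdeal.primeCompl from hgq q) _⟩, by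
      intro q
      refine ⟨U A J ⊓ PrimeSpectrum.basicOpen (g q), ⟨q.2, hgq q⟩, homOfLE inf_le_left,
        mf (g q) (hgJ q), g q ^ k (g q) (hgJ q), fun r => ?_⟩
      refine ⟨fun hmem => r.2.2 (r.1.isPrime.mem_of_pow_mem _ hmem), LocalizedModule.mk_eq.mpr ⟨1, ?_⟩⟩
      simp only [one_smul, Submonoid.smul_def]
      refine hx ?_
      show x • _ = x • _
      rw [smul_comm x, ← hmf, smul_comm x, ← hmf, smul_comm]⟩
  obtain ⟨n, hn⟩ := h.2 S
  have hres : res A M J (x • n - m) = 0 := by
    refine Subtype.ext (funext fun q => ?_)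
    rw [res_apply]
    refine mk_eq_zero_iff.mpr ?_
    obtain ⟨c, hc⟩ := LocalizedModule.mk_eq.mp (congrArg (fun t : Sec A M J => t.1 q) hn)
    refine ⟨c * g q ^ k (g q) (hgJ q),
      q.1.asIdeal.primeCompl.mul_mem c.2 (pow_mem (show g q ∈ q.1.asIdeal.primeCompl from hgq q) _), ?_⟩
    simp only [Submonoid.smul_def, one_smul] at hc
    rw [smul_sub, sub_eq_zero, mul_smul, mul_smul, hmf, smul_comm (g q ^ _) x, smul_comm (c : A) x,
      hc, smul_comm x]
  have hm0 : x • n = m := sub_eq_zero.mp (h.1 (hres.trans (map_zero _).symm))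
  apply hprime.ne_top
  refine Ideal.radical_eq_top.mpr (eq_top_iff.mpr fun r _ => Submodule.mem_colon.mpr fun z hz => ?_)
  rw [Set.mem_singleton_iff.mp hz,
    (Submodule.Quotient.mk_eq_zero _).mpr (hm0 ▸ Submodule.smul_mem_pointwise_smul n x ⊤ trivial),
    smul_zero]
  exact zero_mem _

variable (A M)

theorem isClosedAlong_iff [IsNoetherianRing A] [Module.Finite A M] {Z : Set (PrimeSpectrum A)}
    (hZ : StableUnderSpecialization Z) :
    EGA4.IsClosedAlong Z M ↔ ∀ p : PrimeSpectrum A, p ∈ Z → (2 : ℕ∞) ≤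
      LocCoh.depth (Localization.AtPrime p.asIdeal) (LocalizedModule p.asIdeal.primeCompl M) := by
  constructor
  · intro h p hp
    exact (two_le_of_bijective ((restr_iff A M p.asIdeal).2.mp
      (h p.asIdeal fun q hq => hZ ((PrimeSpectrum.le_iff_specializes p q).mp hq) hp))).trans
        (DepthLib.idealDepth_le_depth_localization p.asIdeal le_rfl)
  · intro h J hJ
    rw [(restr_iff A M J).2]
    refine bijective_of_two_le ?_
    exact (DepthLib.natCast_le_idealDepth_iff_forall_localization (n := 2)).mpr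
      fun p hp hle => h ⟨p, hp⟩ (hJ hle)

theorem isPureAlong_iff_depth [IsNoetherianRing A] [Module.Finite A M] {Z : Set (PrimeSpectrum A)}
    (hZ : StableUnderSpecialization Z) :
    EGA4.IsPureAlong Z M ↔ ∀ p : PrimeSpectrum A, p ∈ Z → (1 : ℕ∞) ≤
      LocCoh.depth (Localization.AtPrime p.asIdeal) (LocalizedModule p.asIdeal.primeCompl M) := by
  constructor
  · intro h p hp
    exact ((one_le_idealDepth_iff_injective A M p.asIdeal).mpr ((restr_iff A M p.asIdeal).1.mp
      (h p.asIdeal fun q hq => hZ ((PrimeSpectrum.le_iff_specializes p q).mp hq) hp))).trans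
        (DepthLib.idealDepth_le_depth_localization p.asIdeal le_rfl)
  · intro h J hJ
    rw [(restr_iff A M J).1, ← one_le_idealDepth_iff_injective]
    exact (DepthLib.natCast_le_idealDepth_iff_forall_localization (n := 1)).mpr
      fun p hp hle => h ⟨p, hp⟩ (hJ hle)

end Groth.Agent.PureClosed
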